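import Groth.Agent.L25.Translate
import Mathlib.AlgebraicGeometry.Morphisms.UniversallyOpen
import Mathlib.AlgebraicGeometry.Morphisms.Affine

/-! A group scheme over a field has an open and closed subset containing the identity which is a countable union
of affine opens. -/

set_option autoImplicit false
universe u

open CategoryTheory CategoryTheory.Limits MonoidalCategory CartesianMonoidalCategory MonObj AlgebraicGeometry

namespace Groth.L13.OpenSubgrp

variable {k : Type u} [Field k] {G : Over (Spec (CommRingCat.of k))} [GrpObj G]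

/-- `(g, h) ↦ (g * h, h)` -/
noncomputable def shear : G ⊗ G ≅ G ⊗ G where
  hom := CartesianMonoidalCategory.lift (fst G G * snd G G) (snd G G)
  inv := CartesianMonoidalCategory.lift (fst G G * (snd G G)⁻¹) (snd G G)
  hom_inv_id := by
    refine CartesianMonoidalCategory.hom_ext _ _ ?_ ?_
    · simp only [Category.assoc, lift_fst, MonObj.comp_mul, GrpObj.comp_inv, lift_snd, Category.id_comp]
      group
    · simp
  inv_hom_id := by
    refine CartesianMonoidalCategory.hom_ext _ _ ?_ ?_
    · simp only [Category.assoc, lift_fst, MonObj.comp_mul, lift_snd, Category.id_comp]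
      group
    · simp

lemma isOpenMap_mul : IsOpenMap (μ[G]).left := by
  have h : (shear (G := G)).hom ≫ fst G G = μ[G] := by
    rw [shear, lift_fst, Hom.mul_def, lift_fst_snd, Category.id_comp]
  rw [← h, Over.comp_left, Scheme.Hom.comp_base, TopCat.coe_comp]
  haveI : IsIso (shear (G := G)).hom.left := inferInstanceAs (IsIso ((Over.forget _).map (shear (G := G)).hom))
  refine IsOpenMap.comp ?_ (shear (G := G)).hom.left.isOpenMap
  rw [Over.fst_left]
  exact (pullback.fst G.hom G.hom).isOpenMap

/-- products of an element of `S` by an element of `W` -/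
def step (W S : Set G.left) : Set G.left :=
  (μ[G]).left '' ((fst G G).left ⁻¹' S ∩ (snd G G).left ⁻¹' W)

lemma isOpen_step {W S : Set G.left} (hW : IsOpen W) (hS : IsOpen S) : IsOpen (step W S) :=
  isOpenMap_mul _ ((hS.preimage (fst G G).left.continuous).inter (hW.preimage (snd G G).left.continuous))

lemma isCompact_step {W : G.left.Opens} (hW : IsAffineOpen W) {S : Set G.left} (hS : IsOpen S) (hS' : IsCompact S) :
    IsCompact (step (W : Set G.left) S) := by
  refine IsCompact.image ?_ (μ[G]).left.continuous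
  haveI : IsAffine (W : Scheme.{u}) := hW
  haveI : IsAffineHom (W.ι ≫ G.hom) := isAffineHom_of_isAffine _
  rw [Over.fst_left, Over.snd_left]
  let P := pullback.snd G.hom G.hom ⁻¹ᵁ W
  have hsq : IsPullback (P.ι ≫ pullback.fst G.hom G.hom) (pullback.snd G.hom G.hom ∣_ W) G.hom (W.ι ≫ G.hom) :=
    (isPullback_morphismRestrict (pullback.snd G.hom G.hom) W).flip.paste_horiz (IsPullback.of_hasPullback G.hom G.hom)
  haveI : IsAffineHom (P.ι ≫ pullback.fst G.hom G.hom) :=
    MorphismProperty.of_isPullback (P := @IsAffineHom) hsq.flip inferInstance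
  have hc := ((P.ι ≫ pullback.fst G.hom G.hom).isCompact_preimage (U := ⟨S, hS⟩) hS').image P.ι.continuous
  refine Eq.mp (congrArg _ (?_ : _ = _)) hc
  refine Set.ext fun z => Iff.symm ?_
  constructor
  · rintro ⟨hz₁, hz₂⟩
    exact ⟨⟨z, hz₂⟩, hz₁, rfl⟩
  · rintro ⟨⟨z, hz₂⟩, hz₁, rfl⟩
    exact ⟨hz₁, hz₂⟩

/-- `n`-fold products of elements of `W` -/
def steps (W : Set G.left) : ℕ → Set G.left
  | 0 => W
  | n + 1 => step W (steps W n)

lemma steps_props {W : G.left.Opens} (hW : IsAffineOpen W) (n : ℕ) :
    IsOpen (steps (W : Set G.left) n) ∧ IsCompact (steps (W : Set G.left) n) := by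
  induction n with
  | zero => exact ⟨W.isOpen, hW.isCompact⟩
  | succ n ih => exact ⟨isOpen_step W.isOpen ih.1, isCompact_step hW ih.1 ih.2⟩

open Groth.L25 in
lemma isClosed_iUnion_steps {W : Set G.left} (hW : IsOpen W) (he : Component.one G ∈ W) :
    IsClosed (⋃ n, steps W n) := by
  refine isClosed_of_closure_subset fun y hy => ?_
  let φ : G ⊗ Translate.pts y ⟶ G :=
    (snd G (Translate.pts y) ≫ Translate.pt y) * (fst G (Translate.pts y))⁻¹
  have hopen : IsOpenMap φ.left := by
    have h : (Translate.sh y).inv ≫ fst G (Translate.pts y) = φ := lift_fst _ _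
    rw [← h, Over.comp_left, Scheme.Hom.comp_base, TopCat.coe_comp]
    haveI : IsIso (Translate.sh y).inv.left :=
      inferInstanceAs (IsIso ((Over.forget _).map (Translate.sh y).inv))
    exact (Translate.fst_props y).1.comp (Translate.sh y).inv.left.isOpenMap
  let σ : Translate.pts y ⟶ G ⊗ Translate.pts y := CartesianMonoidalCategory.lift 1 (𝟙 _)
  have h1 : σ ≫ fst G (Translate.pts y) = 1 := lift_fst _ _
  have h2 : σ ≫ φ = Translate.pt y := by
    simp only [φ, MonObj.comp_mul, GrpObj.comp_inv, σ, lift_fst, lift_snd_assoc, Category.id_comp, inv_one, _root_.mul_one]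
  have hmemN : y ∈ φ.left '' ((fst G (Translate.pts y)).left ⁻¹' W) := by
    refine ⟨σ.left (Translate.base y), ?_, ?_⟩
    · show (fst G (Translate.pts y)).left (σ.left (Translate.base y)) ∈ W
      have e := congr(($h1).left (Translate.base y))
      rw [Translate.one_left_apply] at e
      exact (show (fst G (Translate.pts y)).left (σ.left (Translate.base y)) = Component.one G from e) ▸ he
    · exact (congr(($h2).left (Translate.base y))).trans (Translate.pt_apply y _)
  obtain ⟨_, ⟨c, hc, rfl⟩, hz⟩ := mem_closure_iff.mp hy _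
    (hopen _ (hW.preimage (fst G (Translate.pts y)).left.continuous)) hmemN
  obtain ⟨n, hn⟩ := Set.mem_iUnion.mp hz
  refine Set.mem_iUnion.mpr ⟨n + 1, (CartesianMonoidalCategory.lift φ (fst G (Translate.pts y))).left c, ⟨?_, ?_⟩, ?_⟩
  · show (fst G G).left _ ∈ steps W n
    exact (show (fst G G).left ((CartesianMonoidalCategory.lift φ (fst G (Translate.pts y))).left c) = φ.left c from
      congr(($(lift_fst φ (fst G (Translate.pts y)))).left c)) ▸ hn
  · show (snd G G).left _ ∈ W
    exact (show (snd G G).left ((CartesianMonoidalCategory.lift φ (fst G (Translate.pts y))).left c) =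
      (fst G (Translate.pts y)).left c from congr(($(lift_snd φ (fst G (Translate.pts y)))).left c)) ▸ hc
  · have h : CartesianMonoidalCategory.lift φ (fst G (Translate.pts y)) ≫ μ[G] =
        snd G (Translate.pts y) ≫ Translate.pt y := by
      rw [← Hom.mul_def]; simp only [φ]; group
    exact (congr(($h).left c)).trans (Translate.pt_apply y _)

theorem exists_open : ∃ U : G.left.Opens, IsClosed (U : Set G.left) ∧ Groth.L25.Component.one G ∈ U ∧
    ∃ V : ℕ → G.left.Opens, (∀ n, IsAffineOpen (V n)) ∧ (U : Set G.left) = ⋃ n, (V n : Set G.left) := by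
  classical
  obtain ⟨_, ⟨W, hW, rfl⟩, heW, -⟩ :=
    G.left.isBasis_affineOpens.exists_subset_of_mem_open (Set.mem_univ (Groth.L25.Component.one G)) isOpen_univ
  change IsAffineOpen W at hW
  have hsteps : ∀ n, ∃ s : Set G.left.affineOpens, s.Finite ∧
      steps (W : Set G.left) n = ⋃ i ∈ s, ((i : G.left.Opens) : Set G.left) := fun n =>
    isCompact_and_isOpen_iff_finite_and_eq_biUnion_affineOpens.mp ⟨(steps_props hW n).2, (steps_props hW n).1⟩
  choose s hs hs' using hsteps
  let T : Set G.left.affineOpens := {⟨⊥, isAffineOpen_bot _⟩} ∪ ⋃ n, s n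
  have hT : T.Countable := (Set.countable_singleton _).union (Set.countable_iUnion fun n => (hs n).countable)
  obtain ⟨F, hF⟩ := hT.exists_eq_range ⟨_, Or.inl rfl⟩
  refine ⟨⟨⋃ n, steps (W : Set G.left) n, isOpen_iUnion fun n => (steps_props hW n).1⟩,
    isClosed_iUnion_steps W.isOpen heW, Set.mem_iUnion.mpr ⟨0, heW⟩, fun n => (F n).1, fun n => (F n).2, ?_⟩
  ext z
  simp only [TopologicalSpace.Opens.coe_mk, Set.mem_iUnion]
  constructor
  · rintro ⟨n, hn⟩
    rw [hs' n] at hn
    obtain ⟨i, hi, hzi⟩ := Set.mem_iUnion₂.mp hn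
    obtain ⟨m, hm⟩ : i ∈ Set.range F := hF ▸ Or.inr (Set.mem_iUnion.mpr ⟨n, hi⟩)
    exact ⟨m, hm ▸ hzi⟩
  · rintro ⟨m, hm⟩
    obtain (h | h) : F m ∈ T := hF ▸ Set.mem_range_self m
    · rw [h] at hm; exact absurd hm (by simp)
    · obtain ⟨n, hn⟩ := Set.mem_iUnion.mp h
      exact ⟨n, by rw [hs' n]; exact Set.mem_iUnion₂.mpr ⟨_, hn, hm⟩⟩

end Groth.L13.OpenSubgrp
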